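import Groth.Agent.JacVar.K532.CurvePic
import Groth.Agent.Sga5.H844.CurveDiv
import Groth.Agent.Surf.K464.DegCurve
import Groth.Agent.S1641

/-!
# Divisor classes on smooth proper curves (K420)

Glue between `K532.CurvePic` (classes, `h`, `deg`, `om`) and `K464.Base.ic` (class of the ideal of an effective divisor):

* `deg_ic : deg (ic D) = - h⁰(O/D)`;
* `ne_bot_of_finrank : h⁰(O/I) ≠ 1 → I ≠ ⊥`;
* `h1_eq_zero : 2 g - 2 < deg c → h¹ c = 0`, `h0_eq : h⁰ c = deg c + 1 - g`.
-/

set_option autoImplicit false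
universe u
open CategoryTheory CategoryTheory.Limits AlgebraicGeometry Opposite TopologicalSpace

namespace K420.CurveBase

open Groth.Agent Groth.Agent.Grpsch.PicGrp K532.CurvePic K464.Base
open Groth.Agent.Dix.IdealModCartier

variable {k : Type u} [Field k] {X : Scheme.{u}} [X.Over (Spec (CommRingCat.of k))] (hX : IsCurve k X)

include hX

theorem deg_eq_degC (c : Pic X) : deg k X c = K464.DegCurve.degC k X c := by
  have := hX.proper
  have := hX.integral
  obtain ⟨L, hL, rfl⟩ := exists_mk c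
  rw [deg_mk k X hX.dim hL, K464.DegCurve.degC_mk]

theorem deg_ic {D : X.IdealSheafData} (hD : BlowUp.IsEffCartierIdeal D) :
    deg k X (ic D hD) = - (Module.finrank k (Coh.HH X (ClSub.quotMod D) 0) : ℤ) := by
  have := hX.proper
  have := hX.integral
  rw [deg_eq_degC hX, K464.DegCurve.degC_ic k X hX.dim]

theorem ne_bot_of_finrank (I : X.IdealSheafData) (hI : Module.finrank k (Coh.HH X (ClSub.quotMod I) 0) ≠ 1) :
    I ≠ ⊥ := by
  rintro rfl
  apply hI
  have h1 : IsIso (⊥ : X.IdealSheafData).subschemeι := inferInstance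
  have h2 : IsIso (ClSub.unitToPush (⊥ : X.IdealSheafData).subschemeι) := S1641.isIso_unitToPush _
  rw [← (CurvesA.HHMap.equivOver k (asIso (ClSub.unitToPush (⊥ : X.IdealSheafData).subschemeι)) 0).finrank_eq]
  exact hX.h0

theorem h1_eq_zero (c : Pic X) (hc : 2 * (gen k X : ℤ) - 2 < deg k X c) : h k X 1 c = 0 := by
  rw [serre hX]
  apply h0_eq_zero_of_deg_neg hX
  rw [deg_mul hX, deg_inv hX, deg_om]
  omega

theorem h0_eq (c : Pic X) (hc : 2 * (gen k X : ℤ) - 2 < deg k X c) :
    (h k X 0 c : ℤ) = deg k X c + 1 - gen k X := by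
  have := rr hX c
  rw [h1_eq_zero hX c hc] at this
  push_cast at this
  linarith

end K420.CurveBase
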