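import Groth.Agent.Krr.H478.ImIdeal
import Groth.Agent.Flatn.K654.GeoExact
import Groth.Agent.Fga.TwistCoh
import Groth.Agent.SDiv.K474.FittBlow
import Groth.Agent.Fitt.K360.Fiber
import Groth.Agent.VBPn.K700.PicVan
import Groth.Agent.Grpsch.PicGrp

/-!
# The Fitting ideal of the cokernel of a monomorphism of invertible modules

For a short exact sequence `0 → A → B → C → 0` with `A`, `B` invertible, `B ⊗ Fitt₀(C) ≅ A`.
-/

set_option autoImplicit false
universe u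

open CategoryTheory CategoryTheory.Limits AlgebraicGeometry TopologicalSpace Opposite

namespace K420.FittSeq

open Groth.Agent Krr.H478.ImIdeal SDiv.K474.FittSheaf SDiv.K474.FittBlow Divis.IdealComap CohqB.FiniteType2
open K360.FittBasic K360.FittFiber Sga67.Sec Sga67.TensorOps Krr.H478.Cosection

variable {X : Scheme.{u}}

theorem ideal_eq_rg {S : ShortComplex X.Modules} (hS : S.ShortExact) (h1 : Coh.IsQCoh S.X₁)
    (e : S.X₂ ≅ Coh.structureModule X) {U : X.Opens} (hU : IsAffineOpen U) :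
    Fitt.ideal Γ(X, U) Γ(S.X₃, U) 0 = rg (S.f ≫ e.hom) U := by
  obtain ⟨hinj, hex, hsur⟩ := K654.RelFP.exact_sections hS h1 hU
  let g : Γ(X, U) →ₗ[Γ(X, U)] Γ(S.X₃, U) := (K654.RelFP.appLin S.g U).comp (K654.RelFP.appLin e.inv U)
  have he1 : ∀ s : Γ(S.X₂, U), e.inv.app U (e.hom.app U s) = s := fun s => by
    have : (e.hom ≫ e.inv).app U s = s := by rw [e.hom_inv_id]; rfl
    exact this
  have he2 : ∀ s : Γ(X, U), e.hom.app U (e.inv.app U s) = s := fun s => by
    have : (e.inv ≫ e.hom).app U s = s := by rw [e.inv_hom_id]; rfl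
    exact this
  have hg : Function.Surjective g := by
    intro y
    obtain ⟨x, rfl⟩ := hsur y
    exact ⟨e.hom.app U x, congrArg (K654.RelFP.appLin S.g U) (he1 x)⟩
  have hk : LinearMap.ker g = rg (S.f ≫ e.hom) U := by
    ext a
    rw [LinearMap.mem_ker]
    constructor
    · intro ha
      obtain ⟨x, hx⟩ := (hex (e.inv.app U a)).mp ha
      refine ⟨x, ?_⟩
      change e.hom.app U (S.f.app U x) = a
      rw [← he2 a, ← hx]
      rfl
    · rintro ⟨s, rfl⟩
      change S.g.app U (e.inv.app U (e.hom.app U (S.f.app U s))) = 0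
      rw [he1]
      exact (hex _).mpr ⟨s, rfl⟩
  have : Module.Finite Γ(X, U) (Γ(X, U) ⧸ LinearMap.ker g) := inferInstance
  rw [← ideal_congr (g.quotKerEquivOfSurjective hg) 0, ← hk]
  exact ideal_zero_quotient _

theorem nonempty_iso {S : ShortComplex X.Modules} (hS : S.ShortExact) (h1 : PicF.IsInvertible S.X₁)
    (h2 : PicF.IsInvertible S.X₂) (h3 : Coh.IsQCoh S.X₃) (h3' : CohB1.IsFT S.X₃) :
    Nonempty (CohB1.tensorMod S.X₂ (ClSub.idealMod (Fitt.sheafIdeal S.X₃ 0)) ≅ S.X₁) := by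
  obtain ⟨P, hP, ⟨e⟩⟩ := Grpsch.PicGrp.exists_inverse h2
  have hT := K700.PicVan.shortExact_tensor hS hP
  set T := S.map (DCoh.tensorRightMod P) with hTdef
  have hq : Coh.IsQCoh T.X₁ := by
    have : Coh.IsQCoh S.X₁ := Ega2.QCohLocal.isQCoh_of_isInvertible h1
    exact Ega2.TensGen.isQCoh_tensor this hP
  let e' : T.X₂ ≅ Coh.structureModule X := e
  let t : T.X₁ ⟶ Coh.structureModule X := T.f ≫ e'.hom
  have := hT.mono_f
  have htm : Mono t := mono_comp _ _
  obtain ⟨l, hl, hlt⟩ := exists_factor t (imIdeal hq t) (fun U => rfl)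
  have hlm : Mono l := by
    have : Mono (l ≫ ClSub.idealModι (imIdeal hq t)) := by rw [hlt]; exact htm
    exact mono_of_mono l (ClSub.idealModι (imIdeal hq t))
  have hli : IsIso l := isIso_of_mono_of_epi l
  have hJ : Fitt.sheafIdeal S.X₃ 0 = imIdeal hq t := by
    refine ext_of_forall_mem fun x => ?_
    obtain ⟨V, p, hxV, -, hV, hp⟩ := Ega2.TensGen.exists_affine_gen hP x (V := ⊤) trivial
    refine ⟨⟨V, hV⟩, hxV, ?_⟩
    rw [sheafIdeal_ideal S.X₃ h3 h3', ideal_imIdeal, ← ideal_eq_rg hT hq e' hV]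
    have := h3
    have := finite_sections_of_isFT S.X₃ h3' hV
    exact ideal_congr (Fga.TwistCoh.tmulEquiv S.X₃ hp) 0
  rw [hJ]
  -- `B ⊗ J ≅ B ⊗ (A ⊗ P) ≅ A ⊗ (P ⊗ B) ≅ A`
  exact ⟨(DCoh.tensorBi.obj S.X₂).mapIso (asIso l).symm ≪≫ Ega2.Tens.swap _ _ ≪≫ Ega2.Tens.assoc _ _ _ ≪≫
    (DCoh.tensorBi.obj S.X₁).mapIso (Ega2.Tens.swap _ _ ≪≫ e) ≪≫ Ega2.Tens.runit _⟩

end K420.FittSeq
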