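import Groth.Agent.OmegaSh.K584.GenMono
import Groth.Agent.S5975
import Groth.Agent.S5005
import Groth.Agent.S9370

/-!
# The sequence `0 → f^* Ω_Y → Ω_X → Ω_f → 0` of a generically separable dominant morphism

`f : X ⟶ Y` over a field `k`, `Y` smooth over `k`, `X` and `Y` integral, `f` sending the generic point to the generic
point with `K(X)/K(Y)` formally smooth (e.g. algebraic separable).
-/

set_option autoImplicit false
universe u

open CategoryTheory CategoryTheory.Limits AlgebraicGeometry TopologicalSpace Opposite OmegaSh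

namespace K420.OmSeq

open K583.AlgUniv K583.StalkDer Groth.Agent.VarietyA.StalkBC K584.GenMono Groth.Agent

variable {k : Type u} [Field k] {X Y : Scheme.{u}}

/-- The canonical map `f^* Ω_Y → Ω_X` is a monomorphism if the extension of function fields is formally smooth. -/
theorem mono {gY : Y ⟶ Spec (CommRingCat.of k)} {gX : X ⟶ Spec (CommRingCat.of k)} {f : X ⟶ Y}
    [Smooth gY] [IsIntegral X] [IsIntegral Y] {ΩY : Y.Modules} {dY : Der gY ΩY} {ΩX : X.Modules} {dX : Der gX ΩX}
    {c : (Scheme.Modules.pullback f).obj ΩY ⟶ ΩX} (hf : f ≫ gY = gX) (hdY : IsUniversal dY)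
    (hdX : IsUniversal dX) (hc : IsDiffCompat f dY dX c) (e : f (genericPoint X) = genericPoint Y)
    (hsm : (Y.presheaf.stalkSpecializes (specializes_of_eq e) ≫ f.stalkMap (genericPoint X)).hom.FormallySmooth) :
    Mono c := by
  rw [Groth.Agent.PerfC.FlatExact.mono_iff_stalkLin]
  intro x
  refine injective_stalkLin hf hdY hdX hc x ?_
  let _ : Algebra k (Y.presheaf.stalk (f x)) := (stalkRingHom gY (f x)).toAlgebra
  let _ : Algebra (Y.presheaf.stalk (f x)) (X.presheaf.stalk x) := (f.stalkMap x).hom.toAlgebra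
  let _ : Algebra k (X.presheaf.stalk x) := (stalkRingHom gX x).toAlgebra
  intro htow
  have hsp : genericPoint X ⤳ x := (genericPoint_spec X).specializes trivial
  have hspZ : f (genericPoint X) ⤳ f x := hsp.map f.continuous
  have hspY : genericPoint Y ⤳ f x := (genericPoint_spec Y).specializes trivial
  let _ : Algebra (Y.presheaf.stalk (f x)) X.functionField :=
    (f.stalkMap x ≫ X.presheaf.stalkSpecializes hsp).hom.toAlgebra
  have htow2 : IsScalarTower (Y.presheaf.stalk (f x)) (X.presheaf.stalk x) X.functionField :=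
    IsScalarTower.of_algebraMap_eq fun _ => rfl
  have hfs : Algebra.FormallySmooth k (Y.presheaf.stalk (f x)) := formallySmooth_stalk gY (f x)
  have hfs2 : Algebra.FormallySmooth (Y.presheaf.stalk (f x)) X.functionField := by
    have e1 : f.stalkMap x ≫ X.presheaf.stalkSpecializes hsp =
        Y.presheaf.stalkSpecializes hspY ≫
          (Y.presheaf.stalkSpecializes (specializes_of_eq e) ≫ f.stalkMap (genericPoint X)) := by
      rw [← Category.assoc, TopCat.Presheaf.stalkSpecializes_comp]
      exact (Scheme.Hom.stalkSpecializes_stalkMap f _ _ hsp).symm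
    have h1 := RingHom.FormallySmooth.comp (formallySmooth_specializes rfl hspY) hsm
    have h2 : (f.stalkMap x ≫ X.presheaf.stalkSpecializes hsp).hom.FormallySmooth := by
      rw [e1]
      exact h1
    exact h2
  have hflat : Module.Flat (Y.presheaf.stalk (f x)) (Ω[Y.presheaf.stalk (f x)⁄k]) := inferInstance
  exact injective_mapBaseChange k (Y.presheaf.stalk (f x)) (X.presheaf.stalk x) X.functionField
    (IsFractionRing.injective (X.presheaf.stalk x) X.functionField)

/-- **The relative differential sequence.** -/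
theorem exists_shortExact {gY : Y ⟶ Spec (CommRingCat.of k)} {gX : X ⟶ Spec (CommRingCat.of k)} {f : X ⟶ Y}
    [Smooth gY] [IsIntegral X] [IsIntegral Y] [QuasiSeparated gX] [QuasiSeparated gY] [QuasiSeparated f]
    (hf : f ≫ gY = gX) (e : f (genericPoint X) = genericPoint Y)
    (hsm : (Y.presheaf.stalkSpecializes (specializes_of_eq e) ≫ f.stalkMap (genericPoint X)).hom.FormallySmooth) :
    ∃ (a : (Scheme.Modules.pullback f).obj (Omega.sheaf gY) ⟶ Omega.sheaf gX) (b : Omega.sheaf gX ⟶ Omega.sheaf f)
      (w : a ≫ b = 0), (ShortComplex.mk a b w).ShortExact := by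
  subst hf
  obtain ⟨c₁, hc₁, -⟩ := S9370.result gY (f ≫ gY) f (𝟙 _) (Category.comp_id _) _ (dOmega gY) (S5005.result gY)
    _ (dOmega (f ≫ gY)) (S5005.result (f ≫ gY))
  obtain ⟨c₂, hc₂, -⟩ := S9370.result (f ≫ gY) f (𝟙 X) gY (Category.id_comp _).symm _ (dOmega (f ≫ gY))
    (S5005.result (f ≫ gY)) _ (dOmega f) (S5005.result f)
  obtain ⟨hepi, him⟩ := S5975.result f gY _ (dOmega gY) (S5005.result gY) _ (dOmega (f ≫ gY))
    (S5005.result (f ≫ gY)) _ (dOmega f) (S5005.result f) c₁ hc₁ c₂ hc₂
  have hmono := mono rfl (S5005.result gY) (S5005.result (f ≫ gY)) hc₁ e hsm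
  have hw : c₁ ≫ ((Scheme.Modules.pullbackId X).inv.app (Omega.sheaf (f ≫ gY)) ≫ c₂) = 0 := by
    have h1 : (imageSubobject c₁).arrow ≫
        ((Scheme.Modules.pullbackId X).inv.app (Omega.sheaf (f ≫ gY)) ≫ c₂) = 0 := by
      rw [him, kernelSubobject_arrow_comp]
    rw [← imageSubobject_arrow_comp c₁, Category.assoc, h1, comp_zero]
  refine ⟨c₁, (Scheme.Modules.pullbackId X).inv.app _ ≫ c₂, hw, ?_⟩
  have : Epi ((Scheme.Modules.pullbackId X).inv.app (Omega.sheaf (f ≫ gY)) ≫ c₂) := epi_comp _ _
  exact { exact := (ShortComplex.exact_iff_image_eq_kernel _).mpr him, mono_f := hmono, epi_g := this }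

/-- Algebraic separable extensions are formally smooth. -/
theorem formallySmooth_of_isSeparable {R S : Type u} [Field R] [Field S] (φ : R →+* S)
    (h : letI := φ.toAlgebra; Algebra.IsSeparable R S) : φ.FormallySmooth := by
  let _ := φ.toAlgebra
  have : Algebra.IsSeparable R S := h
  have : Algebra.FormallyEtale R S := Algebra.FormallyEtale.of_isSeparable _ _
  have h : Algebra.FormallySmooth R S := inferInstance
  exact h

theorem formallySmooth_functionField [IsIntegral X] [IsIntegral Y]
    (φ : Y.presheaf.stalk (genericPoint Y) ⟶ X.presheaf.stalk (genericPoint X))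
    (h : letI := φ.hom.toAlgebra; Algebra.IsSeparable Y.functionField X.functionField) :
    φ.hom.FormallySmooth :=
  formallySmooth_of_isSeparable (R := Y.functionField) (S := X.functionField) φ.hom h

end K420.OmSeq
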