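import Groth.Agent.Curves.K328.PicCalc
import Groth.Agent.Curves.K420.Base
import Groth.Agent.Ega2.H296.PnGen
import Groth.Agent.AgPol.K814.CurveHom
import Groth.Agent.Dix.Cast2
import Groth.Agent.CohDim.K685.SetCI
import Groth.Agent.Lefpen.H717.ProjIrr

/-!
# Base point free pencils on smooth proper curves over a field

* `bpf_pullback`: `f^* O(1)` is a base point free pencil for `f : X ⟶ P^1`;
* `pencil`: `2 h⁰(c) ≤ h⁰(c d⁻¹) + h⁰(c d)`;
* `h0_pow`: `h⁰(d^r) = r + 1` for `r ≤ g` and `d` a base point free pencil of degree 2.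
-/

set_option autoImplicit false
universe u
open CategoryTheory CategoryTheory.Limits AlgebraicGeometry Opposite TopologicalSpace

namespace K420.Pencil

open Groth.Agent Groth.Agent.Grpsch.PicGrp K532.CurvePic
open Groth.Agent.Fdesc.LocGen Groth.Agent.Old.H24.MulHom K328.PicCalc

variable {k : Type u} [Field k] {X : Scheme.{u}}

/-- The pulled back coordinates have no common zero. -/
theorem covers_pullSec (f : X ⟶ CohB1.ProjSpace 1 k) :
    Covers (L := (Scheme.Modules.pullback f).obj (Twist.twistProjSpace 1 k 1))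
      (ProjUP.pullSec f (Twist.twistProjSpace 1 k 1) (ProjUP.coord 1 k 0))
      (ProjUP.pullSec f (Twist.twistProjSpace 1 k 1) (ProjUP.coord 1 k 1)) := by
  intro x
  have h0 : f x ∈ ⨆ i, CurvesC.ProjSpaceBasic.Dp 1 k i := by
    rw [CurvesC.ProjSpaceBasic.iSup_Dp]
    trivial
  obtain ⟨i, hi⟩ := Opens.mem_iSup.1 h0
  have h1 := (Ega2.H296.PnGen.isGen_res_coord (R := k) i).pullSec f
  rw [← res_pullSec] at h1
  refine ⟨f ⁻¹ᵁ CurvesC.ProjSpaceBasic.Dp 1 k i, hi, ?_⟩
  fin_cases i
  · exact Or.inl h1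
  · exact Or.inr h1

/-- The class of `f^* O(1)`. -/
noncomputable def cl (f : X ⟶ CohB1.ProjSpace 1 k) : Pic X :=
  mk ((Scheme.Modules.pullback f).obj (Twist.twistProjSpace 1 k 1)) (Ega2.H296.PnGen.isInvertible_pullback_twist f)

theorem bpf_pullback (f : X ⟶ CohB1.ProjSpace 1 k) : BPF X (cl f) :=
  ⟨_, Ega2.H296.PnGen.isInvertible_pullback_twist f, _, _, covers_pullSec f, rfl⟩

variable [X.Over (Spec (CommRingCat.of k))] (hX : IsCurve k X)

omit [X.Over (Spec (CommRingCat.of k))] in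
theorem h_eq [X.Over (Spec (CommRingCat.of k))] (i : ℕ) (c : Pic X) : h k X i c = hh k X i c := by
  obtain ⟨L, hL, rfl⟩ := exists_mk c
  rfl

include hX

theorem deg_cl (f : X ⟶ CohB1.ProjSpace 1 k) (hf : f ≫ CohB1.ProjSpace.toSpec 1 k = X ↘ Spec (CommRingCat.of k))
    [IsFinite f] [Flat f] (hrk : ∀ y : ↥(CohB1.ProjSpace 1 k), Scheme.Hom.finrank f y = 2) :
    deg k X (cl f) = 2 := by
  have := hX.proper
  have hP : IsIntegral (CohB1.ProjSpace 1 k) := Lefpen.H717.ProjIrr.isIntegral_projSpace 1 k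
  have hPp : IsProper (CohB1.ProjSpace 1 k ↘ Spec (CommRingCat.of k)) :=
    inferInstanceAs (IsProper (CohB1.ProjSpace.toSpec 1 k))
  have hPd : topologicalKrullDim (CohB1.ProjSpace 1 k) = 1 := by
    have := K685.SetCI.dim_projSpace k 1
    exact_mod_cast this
  have hPN : IsLocallyNoetherian (CohB1.ProjSpace 1 k) :=
    LocallyOfFiniteType.isLocallyNoetherian (CohB1.ProjSpace 1 k ↘ Spec (CommRingCat.of k))
  rw [cl, deg_mk k X hX.dim, K814.CurveHom.deg_pullback k hX.dim hPd f hf _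
    (Ega2.VeryAmpleAmple.isInvertible_twistProjSpace 1 k 1) (genericPoint _), hrk,
    ← Dix.InterNum.curveDeg_eq k _ hPd, Dix.Cast2.wp2_deg]
  rfl

theorem pencil (c : Pic X) {d : Pic X} (hd : BPF X d) :
    2 * h k X 0 c ≤ h k X 0 (c * d⁻¹) + h k X 0 (c * d) := by
  have := hX.proper
  rw [h_eq, h_eq, h_eq]
  exact K328.PicCalc.pencil' k X c hd

/-- **Powers of a `g¹₂`**. -/
theorem h0_pow {d : Pic X} (hd : BPF X d) (h2 : deg k X d = 2) {r : ℕ} (hr : r ≤ gen k X) :
    h k X 0 (d ^ r) = r + 1 := by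
  have hstep : ∀ n : ℕ, h k X 0 (d ^ n) + 1 ≤ h k X 0 (d ^ (n + 1)) := by
    intro n
    induction n with
    | zero =>
      have h1 := pencil hX 1 hd
      have h3 : h k X 0 (d⁻¹) = 0 := by
        apply h0_eq_zero_of_deg_neg hX
        rw [deg_inv hX, h2]
        norm_num
      have h4 : h k X 0 (1 : Pic X) = 1 := hX.h0
      rw [one_mul, one_mul, h3, h4] at h1
      rw [pow_zero, zero_add, pow_one, h4]
      omega
    | succ n ih =>
      have h1 := pencil hX (d ^ (n + 1)) hd
      rw [← pow_succ, pow_succ, mul_inv_cancel_right, ← pow_succ] at h1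
      omega
  have hlow : ∀ n : ℕ, n + 1 ≤ h k X 0 (d ^ n) := by
    intro n
    induction n with
    | zero =>
      have h4 : h k X 0 (1 : Pic X) = 1 := hX.h0
      rw [pow_zero, h4]
    | succ n ih =>
      have := hstep n
      omega
  have hup : ∀ m n : ℕ, h k X 0 (d ^ n) + m ≤ h k X 0 (d ^ (n + m)) := by
    intro m n
    induction m with
    | zero => rfl
    | succ m ih =>
      have := hstep (n + m)
      rw [← add_assoc n m 1]
      omega
  have hg : (h k X 0 (d ^ (gen k X)) : ℤ) = gen k X + 1 := by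
    rw [K420.CurveBase.h0_eq hX]
    · rw [deg_pow hX, h2]
      ring
    · rw [deg_pow hX, h2]
      linarith
  have h5 := hup (gen k X - r) r
  rw [Nat.add_sub_cancel' hr] at h5
  have h6 := hlow r
  have h7 : h k X 0 (d ^ (gen k X)) = gen k X + 1 := by exact_mod_cast hg
  omega

end K420.Pencil
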