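import Groth.Agent.Curves.K420.PlanePoly
import Groth.Agent.Curves.K318.PlaneCurve
import Groth.Agent.Curves.K330.FormSec
import Groth.Agent.Surf.K456.SecTriv
import Groth.Agent.Lefpen.H705.HypSmooth
import Groth.Agent.Lefpen.H708.Geo

/-!
# Sections of `O(1)` on a plane curve

* `form_eq_zero`: a form of degree `m < d` vanishing on a plane curve of degree `d` is zero;
* `exists_form`: all sections of `O_C(1)` are linear forms (`d ≥ 2`);
* `rank_one`: if `O_C(1) ≅ M ⊗ L`, `d ≥ 3` and `s₁ t₁ ≠ 0` then `t₂` is a multiple of `t₁` or `s₂` of `s₁`.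
-/

set_option autoImplicit false
universe u
open CategoryTheory CategoryTheory.Limits AlgebraicGeometry Opposite TopologicalSpace

namespace K420.PlaneHyp

open Groth.Agent LefPen Groth.Agent.Fdesc.LocGen K330.FormSec K318.PlaneCurve
open Groth.Agent.CurvesB.HZero Groth.Agent.Lefpen.H705.HypIdeal Groth.Agent.Lefpen.H705.SecIdeal
open Groth.Agent.Lefpen.H705.ChartPoly Groth.Agent.Lefpen.H705.HypSmooth Groth.Agent.Sga5

variable {k : Type u} [Field k] {d : ℕ} (F : Form 2 k d)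

/-- A form of degree `m < d` vanishing on the plane curve `F = 0` of degree `d` is zero. -/
theorem form_eq_zero (hF : F ≠ 0) {m : ℕ} (hm : m < d) (Q : Form 2 k m)
    (h : sec' (hypIdeal F).subschemeι Q = 0) : Q = 0 := by
  have h1 : hypIdeal Q ≤ hypIdeal F := by
    have := hypIdeal_le_ker _ Q h
    rwa [Scheme.IdealSheafData.ker_subschemeι] at this
  have h2 : ∀ j : Fin (2 + 1), ProjChart.dehom 2 k j F.1 ∣ ProjChart.dehom 2 k j Q.1 := by
    intro j
    have h3 : (Ideal.span {polyToChart j (ProjChart.dehom 2 k j Q.1)} : Ideal Γ(CohB1.ProjSpace 2 k, chart 2 k j)) ≤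
        Ideal.span {polyToChart j (ProjChart.dehom 2 k j F.1)} := by
      have h4 := h1 (chartAff j)
      rw [ideal_chartAff, ideal_chartAff, Ideal.map_span, Ideal.map_span, Set.image_singleton,
        Set.image_singleton] at h4
      exact h4
    rw [Ideal.span_singleton_le_span_singleton] at h3
    obtain ⟨c, hc⟩ := h3
    obtain ⟨q, rfl⟩ := (polyToChart_bijective (r := 2) (k := k) j).2 c
    rw [← map_mul] at hc
    exact ⟨q, (polyToChart_bijective (r := 2) (k := k) j).1 hc⟩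
  have hF' : F.1 ≠ 0 := fun h => hF (Subtype.ext h)
  exact Subtype.ext (K420.PlanePoly.eq_zero_of_dvd F.2 Q.2 (K420.PlanePoly.dvd_of_dehom F.2 hF' Q.2 h2) hm)

variable [inst : ((hypIdeal F).subscheme).Over (Spec (CommRingCat.of k))]
    (hinst : (hypIdeal F).subscheme ↘ (Spec (CommRingCat.of k)) = (hypIdeal F).subschemeι ≫ CohB1.ProjSpace.toSpec 2 k)

include hinst

/-- The sections of `O_C(1)` are the linear forms. -/
theorem exists_form (hF : F ≠ 0) (hd : 2 ≤ d)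
    (s : Γ((Scheme.Modules.pullback (hypIdeal F).subschemeι).obj (Twist.twistProjSpace 2 k ((1 : ℕ) : ℤ)), ⊤)) :
    ∃ Q : Form 2 k 1, sec' (hypIdeal F).subschemeι Q = s := by
  have hinj : Function.Injective (formSec (d := 1) (hypIdeal F).subscheme (hypIdeal F).subschemeι hinst.symm) := by
    rw [injective_iff_map_eq_zero]
    intro Q hQ
    refine form_eq_zero F hF (by omega) Q ?_
    have h1 : (equivAdd _).symm (sec' (hypIdeal F).subschemeι Q) = 0 := hQ
    rwa [map_eq_zero_iff _ (AddEquiv.injective _)] at h1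
  have h1 : Module.finrank k (Form 2 k 1) = 3 := K581.HomDim.finrank_homogeneous k 2 1
  have h2 : Module.finrank k (Coh.HH (hypIdeal F).subscheme (tw F ((1 : ℕ) : ℤ)) 0) = 3 := by
    have h3 := h0_tw F hF hinst (m := ((1 : ℕ) : ℤ)) (e := 1 - (d : ℤ)) (by push_cast; ring)
    have h4 := h0_twist_neg k (m := 1 - (d : ℤ)) (by omega)
    rw [Module.finrank_zero_of_subsingleton (M := Coh.HH (CohB1.ProjSpace 2 k)
      (Twist.twistProjSpace 2 k (1 - (d : ℤ))) 0), add_zero, h0_twist] at h3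
    exact h3
  have hfin1 : Module.Finite k (Form 2 k 1) := finite_homog k 2 1
  have hfin2 : Module.Finite k (Coh.HH (hypIdeal F).subscheme (tw F ((1 : ℕ) : ℤ)) 0) :=
    Module.finite_of_finrank_pos (by omega)
  have hsurj := (LinearMap.injective_iff_surjective_of_finrank_eq_finrank (h1.trans h2.symm)).mp hinj
  obtain ⟨Q, hQ⟩ := hsurj ((equivAdd _).symm s)
  exact ⟨Q, (equivAdd _).symm.injective hQ⟩

omit inst hinst in
theorem eqn_mul_eq {M L : (hypIdeal F).subscheme.Modules} (hM : PicF.IsInvertible M) (hL : PicF.IsInvertible L)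
    (e : CohB1.tensorMod M L ≅
      (Scheme.Modules.pullback (hypIdeal F).subschemeι).obj (Twist.twistProjSpace 2 k ((1 : ℕ) : ℤ)))
    (s₁ s₂ : Γ(M, ⊤)) (t₁ t₂ : Γ(L, ⊤)) (A B C E : Form 2 k 1)
    (hA : sec' (hypIdeal F).subschemeι A = e.hom.app ⊤ (tmul s₁ t₁))
    (hB : sec' (hypIdeal F).subschemeι B = e.hom.app ⊤ (tmul s₁ t₂))
    (hC : sec' (hypIdeal F).subschemeι C = e.hom.app ⊤ (tmul s₂ t₁))
    (hE : sec' (hypIdeal F).subschemeι E = e.hom.app ⊤ (tmul s₂ t₂)) (j : Fin (2 + 1)) :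
    eqn (hypIdeal F).subschemeι j ((hypIdeal F).subschemeι ⁻¹ᵁ chart 2 k j) le_rfl A *
        eqn (hypIdeal F).subschemeι j ((hypIdeal F).subschemeι ⁻¹ᵁ chart 2 k j) le_rfl E =
      eqn (hypIdeal F).subschemeι j ((hypIdeal F).subschemeι ⁻¹ᵁ chart 2 k j) le_rfl B *
        eqn (hypIdeal F).subschemeι j ((hypIdeal F).subschemeι ⁻¹ᵁ chart 2 k j) le_rfl C := by
  generalize (hypIdeal F).subschemeι = ι at e hA hB hC hE ⊢
  let U := ι ⁻¹ᵁ chart 2 k j
  obtain ⟨g, hg, hgG⟩ := exists_gen_pull (d := 1) ι j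
  apply hg.ext
  have hloc : ∀ x : U, ∃ V : (hypIdeal F).subscheme.Opens, x.1 ∈ V ∧ ∃ hV : V ≤ U,
      res _ hV ((eqn ι j U le_rfl A * eqn ι j U le_rfl E) • g) =
      res _ hV ((eqn ι j U le_rfl B * eqn ι j U le_rfl C) • g) := by
    rintro ⟨x, hx⟩
    obtain ⟨V₁, m, hx₁, hm⟩ := (isInvertible_iff M).1 hM x
    obtain ⟨V₂, l, hx₂, hl⟩ := (isInvertible_iff L).1 hL x
    let V := V₁ ⊓ V₂ ⊓ U
    have hVU : V ≤ U := inf_le_right
    have hm' := hm.res (inf_le_left.trans inf_le_left : V ≤ V₁)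
    have hl' := hl.res (inf_le_left.trans inf_le_right : V ≤ V₂)
    have hg' := hg.res hVU
    set m' := res M (inf_le_left.trans inf_le_left : V ≤ V₁) m
    set l' := res L (inf_le_left.trans inf_le_right : V ≤ V₂) l
    set g' := res _ hVU g
    obtain ⟨α₁, hα₁⟩ := hm'.exists_eq (res M (le_top : V ≤ ⊤) s₁)
    obtain ⟨α₂, hα₂⟩ := hm'.exists_eq (res M (le_top : V ≤ ⊤) s₂)
    obtain ⟨β₁, hβ₁⟩ := hl'.exists_eq (res L (le_top : V ≤ ⊤) t₁)
    obtain ⟨β₂, hβ₂⟩ := hl'.exists_eq (res L (le_top : V ≤ ⊤) t₂)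
    obtain ⟨u, hu⟩ := hg'.exists_eq (e.hom.app V (tmul m' l'))
    have key : ∀ (s : Γ(M, ⊤)) (t : Γ(L, ⊤)) (α β : Γ((hypIdeal F).subscheme, V)) (Q : Form 2 k 1),
        res M (le_top : V ≤ ⊤) s = α • m' → res L (le_top : V ≤ ⊤) t = β • l' →
        sec' ι Q = e.hom.app ⊤ (tmul s t) → ores hVU (eqn ι j U le_rfl Q) = α * β * u := by
      intro s t α β Q hs ht hQ
      apply hg'.ext
      have h1 := congr(res _ hVU $(hgG Q))
      rw [res_smul, res_res, hQ, ← app_res, res_tmul, hs, ht, smul_tmul, tmul_smul, smul_smul] at h1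
      have h2 : e.hom.app V ((α * β) • tmul m' l') = (α * β) • e.hom.app V (tmul m' l') :=
        Scheme.Modules.Hom.app_smul e.hom (α * β) _
      rw [h2, hu, smul_smul] at h1
      exact h1.symm
    refine ⟨V, ⟨⟨hx₁, hx₂⟩, hx⟩, hVU, ?_⟩
    rw [res_smul, res_smul, map_mul, map_mul, key s₁ t₁ α₁ β₁ A hα₁ hβ₁ hA, key s₁ t₂ α₁ β₂ B hα₁ hβ₂ hB,
      key s₂ t₁ α₂ β₁ C hα₂ hβ₁ hC, key s₂ t₂ α₂ β₂ E hα₂ hβ₂ hE]
    congr 1
    ring
  choose V hxV hVU hV using hloc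
  exact res_ext _ V hVU (fun x hx => Opens.mem_iSup.mpr ⟨⟨x, hx⟩, hxV ⟨x, hx⟩⟩) hV

/-- If `O_C(1) ≅ M ⊗ L` then two sections of `M` or two sections of `L` are proportional. -/
theorem rank_one [IsIntegral (hypIdeal F).subscheme] (hF : F ≠ 0) (hd : 3 ≤ d)
    {M L : (hypIdeal F).subscheme.Modules} (hM : PicF.IsInvertible M) (hL : PicF.IsInvertible L)
    (e : CohB1.tensorMod M L ≅
      (Scheme.Modules.pullback (hypIdeal F).subschemeι).obj (Twist.twistProjSpace 2 k ((1 : ℕ) : ℤ)))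
    (s₁ s₂ : Γ(M, ⊤)) (t₁ t₂ : Γ(L, ⊤)) (hs : s₁ ≠ 0) (ht : t₁ ≠ 0) :
    (∃ c : k, t₂ = gl k (hypIdeal F).subscheme c • t₁) ∨ (∃ c : k, s₂ = gl k (hypIdeal F).subscheme c • s₁) := by
  obtain ⟨A, hA⟩ := exists_form F hinst hF (by omega) (e.hom.app ⊤ (tmul s₁ t₁))
  obtain ⟨B, hB⟩ := exists_form F hinst hF (by omega) (e.hom.app ⊤ (tmul s₁ t₂))
  obtain ⟨C, hC⟩ := exists_form F hinst hF (by omega) (e.hom.app ⊤ (tmul s₂ t₁))
  obtain ⟨E, hE⟩ := exists_form F hinst hF (by omega) (e.hom.app ⊤ (tmul s₂ t₂))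
  have hmul := eqn_mul_eq F hM hL e s₁ s₂ t₁ t₂ A B C E hA hB hC hE
  have hinj : ∀ x y : Γ(CohB1.tensorMod M L, ⊤), e.hom.app ⊤ x = e.hom.app ⊤ y → x = y := by
    intro x y hxy
    have h1 : ∀ z : Γ(CohB1.tensorMod M L, ⊤), e.inv.app ⊤ (e.hom.app ⊤ z) = z := fun z => by
      have : (e.hom ≫ e.inv).app ⊤ z = z := by rw [e.hom_inv_id]; rfl
      exact this
    rw [← h1 x, hxy, h1]
  let Q : Form 2 k 2 := ⟨A.1 * E.1 - B.1 * C.1, Submodule.sub_mem _ (A.2.mul E.2) (B.2.mul C.2)⟩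
  have hQ : Q = 0 := by
    refine form_eq_zero F hF (by omega) Q ?_
    rw [sec'_eq_zero_iff]
    intro j
    have h1 := hmul j
    rw [Groth.Agent.Lefpen.H708.Geo.eqn_eq, Groth.Agent.Lefpen.H708.Geo.eqn_eq, Groth.Agent.Lefpen.H708.Geo.eqn_eq,
      Groth.Agent.Lefpen.H708.Geo.eqn_eq, ← map_mul, ← map_mul, ← map_mul, ← map_mul] at h1
    rw [Groth.Agent.Lefpen.H708.Geo.eqn_eq]
    change Groth.Agent.Lefpen.H708.Geo.coordU _ _ _ _ (ProjChart.dehom 2 k j (A.1 * E.1 - B.1 * C.1)) = 0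
    rw [map_sub, map_sub, h1, sub_self]
  have hQ' : A.1 * E.1 = B.1 * C.1 := sub_eq_zero.mp (congrArg Subtype.val hQ)
  have hA0 : A.1 ≠ 0 := by
    intro h0
    have h1 : A = 0 := Subtype.ext h0
    have h2 : sec' (hypIdeal F).subschemeι A = 0 := by
      rw [h1, sec'_eq_zero_iff]
      intro j
      rw [Groth.Agent.Lefpen.H708.Geo.eqn_eq]
      change Groth.Agent.Lefpen.H708.Geo.coordU _ _ _ _ (ProjChart.dehom 2 k j 0) = 0
      rw [map_zero, map_zero]
    rw [hA] at h2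
    have h3 := K456.SecTriv.tmul_ne_zero hM hL hs ht
    apply h3
    apply hinj
    rw [h2, map_zero]
  rcases K420.PlanePoly.rank_one A.2 B.2 C.2 hA0 hQ' with ⟨c, hc⟩ | ⟨c, hc⟩
  · left
    refine ⟨c, ?_⟩
    have h1 : B = c • A := Subtype.ext (by rw [hc]; exact (MvPolynomial.smul_eq_C_mul _ _).symm)
    rw [h1, sec'_smul _ _ hinst.symm, hA] at hB
    have h2 : tmul s₁ t₂ = gl k (hypIdeal F).subscheme c • tmul s₁ t₁ := by
      apply hinj
      rw [← hB]
      exact (Scheme.Modules.Hom.app_smul e.hom _ _).symm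
    by_contra hne
    refine K456.SecTriv.tmul_ne_zero hM hL hs (sub_ne_zero.mpr hne) ?_
    rw [Ega2.TensGen.tmul_sub, tmul_smul, h2, sub_self]
  · right
    refine ⟨c, ?_⟩
    have h1 : C = c • A := Subtype.ext (by rw [hc]; exact (MvPolynomial.smul_eq_C_mul _ _).symm)
    rw [h1, sec'_smul _ _ hinst.symm, hA] at hC
    have h2 : tmul s₂ t₁ = gl k (hypIdeal F).subscheme c • tmul s₁ t₁ := by
      apply hinj
      rw [← hC]
      exact (Scheme.Modules.Hom.app_smul e.hom _ _).symm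
    by_contra hne
    refine K456.SecTriv.tmul_ne_zero hM hL (sub_ne_zero.mpr hne) ht ?_
    rw [Ega2.TensGen.sub_tmul, smul_tmul, h2, sub_self]

end K420.PlaneHyp
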