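import Groth.Agent.Curves.K420.PlaneHyp
import Groth.Agent.Curves.K420.Pencil
import Groth.Agent.JacVar.K533.CurveBasic
import Groth.Agent.Surf.K455.Pos
import Groth.Agent.PerfB.LimModInv

/-!
# Smooth plane curves of degree at least four have no base point free pencil of degree two
-/

set_option autoImplicit false
universe u
open CategoryTheory CategoryTheory.Limits AlgebraicGeometry Opposite TopologicalSpace

namespace K420.PlaneNum

open Groth.Agent LefPen Groth.Agent.Fdesc.LocGen K318.PlaneCurve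
open Groth.Agent.Grpsch.PicGrp K532.CurvePic K328.PicCalc
open Groth.Agent.CurvesB.HZero

variable {k : Type u} [Field k] {d : ℕ} (F : Form 2 k d)
  [inst : ((hypIdeal F).subscheme).Over (Spec (CommRingCat.of k))]
  (hinst : (hypIdeal F).subscheme ↘ (Spec (CommRingCat.of k)) = (hypIdeal F).subschemeι ≫ CohB1.ProjSpace.toSpec 2 k)

omit inst in
theorem exists_two {V : Type*} [AddCommGroup V] [Module k V] (h : ¬ Module.finrank k V ≤ 1) :
    ∃ x y : V, x ≠ 0 ∧ ∀ c : k, c • x ≠ y := by
  by_contra hn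
  push Not at hn
  apply h
  have : Nontrivial V := by
    by_contra h1
    rw [not_nontrivial_iff_subsingleton] at h1
    exact h (by rw [Module.finrank_zero_of_subsingleton]; exact Nat.zero_le _)
  obtain ⟨x, hx⟩ := exists_ne (0 : V)
  exact finrank_le_one x fun y => hn x y hx

include hinst

theorem isCurve (hF : F ≠ 0) (hd : 1 ≤ d) [hsm : Smooth ((hypIdeal F).subschemeι ≫ CohB1.ProjSpace.toSpec 2 k)] :
    IsCurve k (hypIdeal F).subscheme := by
  have h0 := h0_unit F hF hinst hd
  have hconn := connectedSpace_of_h0 h0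
  have hint : IsIntegral (hypIdeal F).subscheme :=
    K533.CurveBasic.isIntegral_of_smooth ((hypIdeal F).subschemeι ≫ CohB1.ProjSpace.toSpec 2 k)
  have hdim : topologicalKrullDim (hypIdeal F).subscheme = 1 := by
    have hirr : IsIntegral (CohB1.ProjSpace 2 k) := Lefpen.H717.ProjIrr.isIntegral_projSpace 2 k
    have hdP : topologicalKrullDim (CohB1.ProjSpace 2 k) = 2 := by
      have := K685.SetCI.dim_projSpace k 2
      exact_mod_cast this
    have hPp : IsProper (CohB1.ProjSpace 2 k ↘ Spec (CommRingCat.of k)) :=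
      inferInstanceAs (IsProper (CohB1.ProjSpace.toSpec 2 k))
    refine K455.Pos.topologicalKrullDim_eq_one k (X := CohB1.ProjSpace 2 k) ?_ (hypIdeal F)
      (K318.HypDiv.isEff_hypIdeal F hF) ?_
    · intro Z hZ
      rw [irreducibleComponents_eq_singleton, Set.mem_singleton_iff] at hZ
      rw [hZ, ← hdP]
      exact (Homeomorph.Set.univ _).isHomeomorph.topologicalKrullDim_eq
    · obtain ⟨x⟩ : Nonempty (hypIdeal F).subscheme := inferInstance
      rw [← Scheme.IdealSheafData.range_subschemeι]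
      exact ⟨_, x, rfl⟩
  refine ⟨⟨?_, ?_, hint, hdim⟩, h0⟩
  · rw [hinst]
    infer_instance
  · rw [hinst]
    infer_instance

theorem no_pencil (hF : F ≠ 0) (hd : 4 ≤ d) (hX : IsCurve k (hypIdeal F).subscheme)
    {ℓ : Pic (hypIdeal F).subscheme} (hℓ : BPF (hypIdeal F).subscheme ℓ)
    (h2 : deg k (hypIdeal F).subscheme ℓ = 2) : False := by
  have := hX.integral
  have hg1 : 1 ≤ gen k (hypIdeal F).subscheme := by
    have h1 : gen k (hypIdeal F).subscheme = (d - 1) * (d - 2) / 2 := h1_unit F hF hinst (by omega)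
    rw [h1]
    refine Nat.div_pos ?_ (by norm_num)
    have : 3 * 2 ≤ (d - 1) * (d - 2) := Nat.mul_le_mul (by omega) (by omega)
    omega
  have hℓ2 := K420.Pencil.h0_pow hX hℓ h2 hg1
  rw [pow_one] at hℓ2
  have hHinv : PicF.IsInvertible (tw F ((1 : ℕ) : ℤ)) :=
    PerfB.LimMod.isInvertible_pullback _ (FormalB.TwistGen.isInvertible_twistProjSpace 2 k _)
  let H : Pic (hypIdeal F).subscheme := mk (tw F ((1 : ℕ) : ℤ)) hHinv
  have hH3 : h k (hypIdeal F).subscheme 0 H = 3 := by
    have h3 := h0_tw F hF hinst (m := ((1 : ℕ) : ℤ)) (e := 1 - (d : ℤ)) (by push_cast; ring)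
    have h4 := h0_twist_neg k (m := 1 - (d : ℤ)) (by omega)
    rw [Module.finrank_zero_of_subsingleton (M := Coh.HH (CohB1.ProjSpace 2 k)
      (Twist.twistProjSpace 2 k (1 - (d : ℤ))) 0), add_zero, h0_twist] at h3
    exact h3
  have hH1 : 0 < h k (hypIdeal F).subscheme 1 H := by
    have h3 := h1_tw F hF hinst (m := ((1 : ℕ) : ℤ)) (e := 1 - (d : ℤ)) (by push_cast; ring) (by norm_num)
    rw [h2_twist k (d - 4) (by omega)] at h3
    have h4 : h k (hypIdeal F).subscheme 1 H = Nat.choose (d - 4 + 2) 2 := h3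
    rw [h4]
    exact Nat.choose_pos (by omega)
  -- the key inequality
  have hkey : h k (hypIdeal F).subscheme 0 (H * ℓ⁻¹) ≤ 1 := by
    by_contra hlt
    obtain ⟨M, hM, hMc⟩ := exists_mk (H * ℓ⁻¹)
    obtain ⟨L, hL, hLc⟩ := exists_mk ℓ
    rw [hMc, h_mk] at hlt
    rw [hLc, h_mk] at hℓ2
    obtain ⟨x₁, x₂, hx₁, hx⟩ := exists_two hlt
    obtain ⟨y₁, y₂, hy₁, hy⟩ := exists_two (k := k) (V := Coh.HH (hypIdeal F).subscheme L 0) (by omega)
    obtain ⟨e⟩ : Nonempty (CohB1.tensorMod M L ≅ tw F ((1 : ℕ) : ℤ)) := by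
      rw [← mk_eq_iff (isInvertible_tensorMod hM hL) hHinv, ← mk_mul_mk hM hL, ← hMc, ← hLc, inv_mul_cancel_right]
    rcases K420.PlaneHyp.rank_one F hinst hF (by omega) hM hL e (equivAdd M x₁) (equivAdd M x₂)
      (equivAdd L y₁) (equivAdd L y₂) ((map_ne_zero_iff _ (equivAdd M).injective).2 hx₁)
      ((map_ne_zero_iff _ (equivAdd L).injective).2 hy₁) with ⟨c, hc⟩ | ⟨c, hc⟩
    · rw [← equivAdd_smul_over] at hc
      exact hy c ((equivAdd L).injective hc).symm
    · rw [← equivAdd_smul_over] at hc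
      exact hx c ((equivAdd M).injective hc).symm
  have hstep : ∀ n : ℕ, h k (hypIdeal F).subscheme 0 (H * ℓ ^ n) + 2 ≤
      h k (hypIdeal F).subscheme 0 (H * ℓ ^ (n + 1)) := by
    intro n
    induction n with
    | zero =>
      have h1 := K420.Pencil.pencil hX H hℓ
      rw [pow_zero, mul_one, zero_add, pow_one]
      omega
    | succ n ih =>
      have h1 := K420.Pencil.pencil hX (H * ℓ ^ (n + 1)) hℓ
      rw [mul_assoc H, mul_assoc H, ← pow_succ, pow_succ ℓ n, mul_inv_cancel_right, ← pow_succ] at h1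
      omega
  have hlow : ∀ n : ℕ, 3 + 2 * n ≤ h k (hypIdeal F).subscheme 0 (H * ℓ ^ n) := by
    intro n
    induction n with
    | zero => rw [pow_zero, mul_one, hH3]
    | succ n ih =>
      have := hstep n
      omega
  have h5 := rr hX H
  obtain ⟨n, hn⟩ : ∃ n : ℕ, 2 * (gen k (hypIdeal F).subscheme : ℤ) - 2 <
      deg k (hypIdeal F).subscheme H + 2 * n := by
    refine ⟨(2 * (gen k (hypIdeal F).subscheme : ℤ) - deg k (hypIdeal F).subscheme H).toNat, ?_⟩
    omega
  have h6 : deg k (hypIdeal F).subscheme (H * ℓ ^ n) = deg k (hypIdeal F).subscheme H + 2 * n := by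
    rw [deg_mul hX, deg_pow hX, h2]
    ring
  have h7 := K420.CurveBase.h0_eq hX (H * ℓ ^ n) (by rw [h6]; exact hn)
  have h8 := hlow n
  rw [h6] at h7
  omega

end K420.PlaneNum
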