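import Groth.Agent.Lefpen.H397.ConePt
import Groth.Agent.STCI.K945.Dehom
import Mathlib.RingTheory.MvPolynomial.IrreducibleQuadratic

/-!
# Divisibility of ternary forms

* `dvd_of_dehom`: divisibility on all charts implies divisibility;
* `eq_zero_of_dvd`: a form divisible by a form of larger degree vanishes;
* `rank_one`: `a e = b c` for linear forms, `a ≠ 0`, implies that `b` or `c` is proportional to `a`.
-/

set_option autoImplicit false
universe u

open MvPolynomial

namespace K420.PlanePoly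

open Groth.Agent.Sga5

variable {k : Type u} [Field k]

theorem exists_pow_mul {r : ℕ} (j : Fin (r + 1)) {D E : ℕ} {F P : MvPolynomial (Fin (r + 1)) k}
    (hF : F.IsHomogeneous D) (hP : P.IsHomogeneous E)
    (h : ProjChart.dehom r k j F ∣ ProjChart.dehom r k j P) : ∃ N : ℕ, F ∣ X j ^ N * P := by
  obtain ⟨q, hq⟩ := h
  obtain ⟨E', Q, hQ, rfl⟩ := Groth.Agent.Lefpen.H397.ConePt.exists_dehom (k := k) j q
  have h1 : X j ^ (D + E') * P = X j ^ E * (F * Q) := by
    refine K945.Dehom.dehom_inj j (D := D + E' + E) ?_ ?_ ?_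
    · have := ((isHomogeneous_X k j).pow (D + E')).mul hP
      rwa [one_mul] at this
    · have := ((isHomogeneous_X k j).pow E).mul (hF.mul hQ)
      rwa [one_mul, add_comm E] at this
    · rw [map_mul, map_mul, map_mul, map_pow, map_pow, ProjChart.dehom_X_self, one_pow, one_pow, one_mul, one_mul, hq]
  exact ⟨D + E', by rw [h1]; exact (dvd_mul_right F Q).mul_left _⟩

theorem isRelPrime_X {σ : Type*} {i j : σ} (hij : i ≠ j) :
    IsRelPrime (X i : MvPolynomial σ k) (X j) := by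
  have h1 : Irreducible (X i : MvPolynomial σ k) := (X_prime (R := k) (i := i)).irreducible
  rw [h1.isRelPrime_iff_not_dvd]
  intro h
  rw [X_dvd_X] at h
  exact hij h

theorem dvd_of_dehom {D E : ℕ} {F P : MvPolynomial (Fin (2 + 1)) k} (hF : F.IsHomogeneous D)
    (hF0 : F ≠ 0) (hP : P.IsHomogeneous E)
    (h : ∀ j, ProjChart.dehom 2 k j F ∣ ProjChart.dehom 2 k j P) : F ∣ P := by
  obtain ⟨N, h0⟩ := exists_pow_mul 0 hF hP (h 0)
  obtain ⟨M, h1⟩ := exists_pow_mul 1 hF hP (h 1)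
  obtain ⟨a, b, ha, hb, rfl⟩ := exists_dvd_and_dvd_of_dvd_mul h0
  obtain ⟨P', rfl⟩ := hb
  have hb0 : b ≠ 0 := right_ne_zero_of_mul hF0
  have h2 : a ∣ X 1 ^ M * P' := by
    have h3 : b * a ∣ b * (X 1 ^ M * P') := by
      rw [mul_comm b a]
      convert h1 using 1
      ring
    exact (mul_dvd_mul_iff_left hb0).mp h3
  have h4 : IsRelPrime a (X 1 ^ M) := by
    have h5 : IsRelPrime (X 0 ^ N : MvPolynomial (Fin (2 + 1)) k) (X 1 ^ M) :=
      (isRelPrime_X (by decide)).pow
    exact fun d hd hd' => h5 (hd.trans ha) hd'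
  have h6 : a ∣ P' := h4.dvd_of_dvd_mul_left h2
  rw [mul_comm a b]
  exact mul_dvd_mul_left b h6

theorem eq_zero_of_dvd {σ : Type*} {D E : ℕ} {F P : MvPolynomial σ k} (hF : F.IsHomogeneous D)
    (hP : P.IsHomogeneous E) (h : F ∣ P) (hlt : E < D) : P = 0 := by
  by_contra h0
  obtain ⟨c, rfl⟩ := h
  have hF0 : F ≠ 0 := left_ne_zero_of_mul h0
  have hc0 : c ≠ 0 := right_ne_zero_of_mul h0
  have h1 := hP.totalDegree h0
  rw [totalDegree_mul_of_isDomain hF0 hc0, hF.totalDegree hF0] at h1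
  omega

theorem irreducible_of_linear {σ : Type*} {a : MvPolynomial σ k} (ha : a.IsHomogeneous 1) (ha0 : a ≠ 0) :
    Irreducible a := by
  refine irreducible_of_totalDegree_eq_one (ha.totalDegree ha0) fun x hx => ?_
  rw [isUnit_iff_ne_zero]
  rintro rfl
  apply ha0
  ext i
  have := hx i
  rw [zero_dvd_iff] at this
  rw [this, coeff_zero]

theorem eq_C_mul {σ : Type*} {a b : MvPolynomial σ k} (ha : a.IsHomogeneous 1) (hb : b.IsHomogeneous 1)
    (h : a ∣ b) : ∃ c : k, b = C c * a := by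
  by_cases hb0 : b = 0
  · exact ⟨0, by rw [hb0, C_0, zero_mul]⟩
  obtain ⟨q, rfl⟩ := h
  have ha0 : a ≠ 0 := left_ne_zero_of_mul hb0
  have hq0 : q ≠ 0 := right_ne_zero_of_mul hb0
  have h1 := hb.totalDegree hb0
  rw [totalDegree_mul_of_isDomain ha0 hq0, ha.totalDegree ha0] at h1
  have h2 : q.totalDegree = 0 := by omega
  rw [totalDegree_eq_zero_iff_eq_C] at h2
  refine ⟨coeff 0 q, ?_⟩
  rw [mul_comm]
  congr 1

theorem rank_one {σ : Type*} {a b c e : MvPolynomial σ k} (ha : a.IsHomogeneous 1) (hb : b.IsHomogeneous 1)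
    (hc : c.IsHomogeneous 1) (ha0 : a ≠ 0) (h : a * e = b * c) :
    (∃ t : k, b = C t * a) ∨ ∃ t : k, c = C t * a := by
  have hp : Prime a := (irreducible_of_linear ha ha0).prime
  rcases hp.dvd_or_dvd (show a ∣ b * c from ⟨e, h.symm⟩) with h1 | h1
  · exact Or.inl (eq_C_mul ha hb h1)
  · exact Or.inr (eq_C_mul ha hc h1)

end K420.PlanePoly
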